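import Groth.Agent.PicfLib.Seesaw.Local
import Groth.Prelude.Def_CohBC2

/-! Invertible modules trivial on the fibres, through the degree zero base change map. -/

set_option autoImplicit false
set_option linter.style.haveILetI false
set_option linter.unusedSectionVars false
set_option backward.isDefEq.respectTransparency false
set_option backward.isDefEq.respectTransparency.types false

universe u

open CategoryTheory CategoryTheory.Limits AlgebraicGeometry TopologicalSpace Opposite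

namespace Groth.Agent.PicfLib.Seesaw

open Groth.Agent.InvX Groth.Agent.H23.TrivBasic

variable {X S : Scheme.{u}}

/-- A section whose pullback is a frame is a frame around the image. -/
theorem exists_frame_of_pullElt {Y : Scheme.{u}} {M : X.Modules} (hM : PicF.IsInvertible M) (u : Y ⟶ X) {U : X.Opens}
    (σ : Γ(M, U)) (h : IsFrame (pullElt u σ)) (y : Y) (hy : u y ∈ U) :
    ∃ (W : X.Opens) (hW : W ≤ U), u y ∈ W ∧ IsFrame (AModX.res M hW σ) := by
  obtain ⟨U₀, hyU₀, ε, hε⟩ := InvX.exists_frame hM (u y)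
  have hε' := hε.res (inf_le_right : U ⊓ U₀ ≤ U₀)
  obtain ⟨g, hg⟩ := hε'.exists_coord le_rfl (AModX.res M (inf_le_left : U ⊓ U₀ ≤ U) σ)
  rw [AModX.res_self] at hg
  have h1 : IsFrame (u.app (U ⊓ U₀) g • pullElt u (AModX.res M (inf_le_right : U ⊓ U₀ ≤ U₀) ε)) := by
    rw [← pullElt_smul, ← hg, ← res_pullElt u (inf_le_left : U ⊓ U₀ ≤ U) σ]
    exact h.res _
  have h2 := isFrame_pullElt u hε'
  obtain ⟨d, hd⟩ := h1.exists_coord le_rfl (pullElt u (AModX.res M (inf_le_right : U ⊓ U₀ ≤ U₀) ε))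
  rw [AModX.res_self, smul_smul] at hd
  have hu : IsUnit (u.app (U ⊓ U₀) g) := IsUnit.of_mul_eq_one d (h2.coord_unique le_rfl (by
    rw [one_smul, AModX.res_self, mul_comm]; exact hd.symm))
  have hgy : u y ∈ X.basicOpen g := by
    have hy' : y ∈ Y.basicOpen (u.app (U ⊓ U₀) g) := by
      rw [Y.basicOpen_of_isUnit hu]; exact ⟨hy, hyU₀⟩
    rw [← Scheme.preimage_basicOpen] at hy'
    exact hy'
  have hle : X.basicOpen g ≤ U := (X.basicOpen_le g).trans inf_le_left
  refine ⟨X.basicOpen g, hle, hgy, ?_⟩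
  have h3 := congrArg (AModX.res M (X.basicOpen_le g)) hg
  rw [AModX.res_res, AModX.res_smul] at h3
  rw [h3]
  refine (hε'.res (X.basicOpen_le g)).isUnit_smul ?_
  exact RingedSpace.isUnit_res_basicOpen X.toRingedSpace g

theorem mem_fiber_preimage (f : X ⟶ S) {s : S} {V : S.Opens} (hs : s ∈ V) :
    f.fiberι s ⁻¹ᵁ (f ⁻¹ᵁ V) = ⊤ := by
  refine top_le_iff.1 fun z _ => ?_
  show f (f.fiberι s z) ∈ V
  have : f (f.fiberι s z) ∈ ({s} : Set S) := by
    have h : f.fiberι s z ∈ Set.range (f.fiberι s) := ⟨z, rfl⟩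
    rw [Scheme.Hom.range_fiberι] at h
    exact h
  rwa [Set.mem_singleton_iff.1 this]

variable (f : X ⟶ S) (L : X.Modules)

/-- The restriction of a section near a fibre to the fibre. -/
noncomputable def toFibre {s : S} {V : S.Opens} (hs : s ∈ V) (σ : Γ(L, f ⁻¹ᵁ V)) :
    Γ(CohIII.fiberMod f L s, ⊤) :=
  AModX.res _ (mem_fiber_preimage f hs).ge (pullElt (f.fiberι s) σ)

/-- A section near a trivial fibre not vanishing on it is a frame near it. -/
theorem exists_frame_of_toFibre [IsProper f] (hL : PicF.IsInvertible L) {s : S} {V : S.Opens} (hs : s ∈ V)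
    (σ : Γ(L, f ⁻¹ᵁ V)) (hσ : IsFrame (toFibre f L hs σ)) :
    ∃ (W : S.Opens) (hW : W ≤ V), s ∈ W ∧ IsFrame (AModX.res L (f.preimage_mono hW) σ) := by
  have hσ' : IsFrame (pullElt (f.fiberι s) σ) := by
    have := hσ.res (le_top : f.fiberι s ⁻¹ᵁ (f ⁻¹ᵁ V) ≤ ⊤)
    unfold toFibre at this
    rwa [AModX.res_res, AModX.res_self] at this
  let G : X.Opens := sSup {W | ∃ hW : W ≤ f ⁻¹ᵁ V, IsFrame (AModX.res L hW σ)}
  let C : Set S := f '' ((G : Set X)ᶜ)
  have hC : IsClosed C := (Scheme.Hom.isClosedMap f) _ G.isOpen.isClosed_compl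
  refine ⟨V ⊓ ⟨Cᶜ, hC.isOpen_compl⟩, inf_le_left, ⟨hs, fun hsC => ?_⟩, isFrame_of_germwise fun x hx => ?_⟩
  · obtain ⟨x, hx, hxs⟩ := hsC
    obtain ⟨z, rfl⟩ : x ∈ Set.range (f.fiberι s) := by rw [Scheme.Hom.range_fiberι]; exact hxs
    obtain ⟨W, hW, hxW, hf⟩ := exists_frame_of_pullElt hL (f.fiberι s) σ hσ' z (by show f (f.fiberι s z) ∈ V; rw [hxs]; exact hs)
    exact hx (Opens.mem_sSup.2 ⟨W, ⟨hW, hf⟩, hxW⟩)
  · have hxG : x ∈ G := by
      by_contra h
      exact hx.2 ⟨x, h, rfl⟩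
    obtain ⟨W, ⟨hW, hf⟩, hxW⟩ := Opens.mem_sSup.1 hxG
    refine ⟨W ⊓ f ⁻¹ᵁ (V ⊓ ⟨Cᶜ, hC.isOpen_compl⟩), inf_le_right, ⟨hxW, hx⟩, ?_⟩
    have := hf.res (inf_le_left : W ⊓ f ⁻¹ᵁ (V ⊓ ⟨Cᶜ, hC.isOpen_compl⟩) ≤ W)
    rw [AModX.res_res] at this ⊢
    exact this

/-- The degree zero base change map to a fibre. -/
noncomputable abbrev bcFibre (s : S) :=
  CohBC.bc0 f (S.fromSpecResidueField s) (f.fiberToSpecResidueField s) (f.fiberι s) (f.fiber_fac s) L

theorem preimage_fromSpec_eq {s : S} {V : S.Opens} (hs : s ∈ V) :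
    S.fromSpecResidueField s ⁻¹ᵁ V = ⊤ :=
  top_le_iff.1 fun z _ => by
    show S.fromSpecResidueField s z ∈ V
    rw [Scheme.fromSpecResidueField_apply]; exact hs

theorem bc0Adj_app (s : S) (V : S.Opens) (σ : Γ(L, f ⁻¹ᵁ V)) :
    ∃ h, (CohBC.bc0Adj f (S.fromSpecResidueField s) (f.fiberToSpecResidueField s) (f.fiberι s) (f.fiber_fac s) L).app V σ =
      AModX.res _ h (pullElt (f.fiberι s) σ) := by
  refine ⟨le_of_eq (congrArg (fun g : f.fiber s ⟶ S => g ⁻¹ᵁ V) (f.fiber_fac s)).symm, ?_⟩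
  rfl

/-- If the base change map is an epimorphism and the fibre has a section, some section near the fibre does not
vanish on it. -/
theorem exists_toFibre_ne_zero {s : S} (hepi : Epi (bcFibre f L s))
    (hne : Nontrivial Γ(CohIII.fiberMod f L s, ⊤)) :
    ∃ (V : S.Opens) (hs : s ∈ V) (σ : Γ(L, f ⁻¹ᵁ V)), toFibre f L hs σ ≠ 0 := by
  by_contra H
  push Not at H
  have hadj : CohBC.bc0Adj f (S.fromSpecResidueField s) (f.fiberToSpecResidueField s) (f.fiberι s) (f.fiber_fac s) L = 0 := by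
    refine Scheme.Modules.hom_ext _ _ fun V => AddCommGrpCat.hom_ext (AddMonoidHom.ext fun σ => ?_)
    obtain ⟨h, hσ⟩ := bc0Adj_app f L s V σ
    refine hσ.trans ?_
    by_cases hs : s ∈ V
    · have h0 := congrArg (AModX.res _ (le_top : f.fiberι s ⁻¹ᵁ (f ⁻¹ᵁ V) ≤ ⊤)) (H V hs σ)
      unfold toFibre at h0
      rw [AModX.res_res, AModX.res_self, map_zero] at h0
      rw [h0, map_zero]
      rfl
    · refine AModX.eq_of_locally (M := CohIII.fiberMod f L s) _ _ fun p hp => ?_
      exfalso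
      refine hs ?_
      have : S.fromSpecResidueField s (f.fiberToSpecResidueField s p) ∈ V := hp
      rwa [Scheme.fromSpecResidueField_apply] at this
  have hzero : bcFibre f L s = 0 := by
    show ((Scheme.Modules.pullbackPushforwardAdjunction (S.fromSpecResidueField s)).homEquiv _ _).symm _ = 0
    rw [hadj, Adjunction.homEquiv_counit, Functor.map_zero, zero_comp]
  haveI := hepi
  have hid := (cancel_epi (bcFibre f L s)).1
    (show bcFibre f L s ≫ 𝟙 _ = bcFibre f L s ≫ 0 by rw [hzero, zero_comp, zero_comp])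
  obtain ⟨a, ha⟩ := exists_ne (0 : Γ(CohIII.fiberMod f L s, ⊤))
  exact ha (congrArg (fun φ => Scheme.Modules.Hom.app φ ⊤
    (show Γ((Scheme.Modules.pushforward (f.fiberToSpecResidueField s)).obj (CohIII.fiberMod f L s), ⊤) from a)) hid)

/-- If a section near the fibre gives a frame of it and the fibre has constant functions, the base change map is
an epimorphism. -/
theorem epi_bcFibre {s : S} {V : S.Opens} (hs : s ∈ V) (σ : Γ(L, f ⁻¹ᵁ V)) (hσ : IsFrame (toFibre f L hs σ))
    (h0 : Function.Bijective (f.fiberToSpecResidueField s).appTop) : Epi (bcFibre f L s) := by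
  let φ := bcFibre f L s
  let g := S.fromSpecResidueField s
  obtain ⟨h, hadj⟩ := bc0Adj_app f L s V σ
  have h1 := (Scheme.Modules.pullbackPushforwardAdjunction g).homEquiv_unit _ _ φ
  rw [show φ = bcFibre f L s from rfl, bcFibre, CohBC.bc0, Equiv.apply_symm_apply] at h1
  have h2 : φ.app (g ⁻¹ᵁ V) (pullElt g (show Γ((Scheme.Modules.pushforward f).obj L, V) from σ)) =
      AModX.res _ h (pullElt (f.fiberι s) σ) := (congr(($h1).app V σ)).symm.trans hadj
  let a := AModX.res _ (preimage_fromSpec_eq hs).ge (pullElt g (show Γ((Scheme.Modules.pushforward f).obj L, V) from σ))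
  have h3 : φ.app ⊤ a = toFibre f L hs σ := by
    refine (AModX.app_res φ (preimage_fromSpec_eq hs).ge _).trans ?_
    rw [h2]
    exact (AModX.res_res (M := CohIII.fiberMod f L s) _ _ _)
  refine ⟨fun {Z} u v huv => ?_⟩
  have hsurj : Function.Surjective (φ.app ⊤) := fun b => by
    obtain ⟨c, hc⟩ := hσ.exists_coord le_rfl (show Γ(CohIII.fiberMod f L s, ⊤) from b)
    rw [AModX.res_self] at hc
    obtain ⟨c', rfl⟩ := h0.2 c
    refine ⟨c' • a, ?_⟩
    rw [Scheme.Modules.Hom.app_smul, h3]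
    exact hc.symm
  refine Scheme.Modules.hom_ext _ _ fun W => ?_
  have hW : W = ⊤ ∨ W = ⊥ := by
    haveI : Subsingleton (Spec (S.residueField s)) := inferInstanceAs (Subsingleton (PrimeSpectrum (S.residueField s)))
    rcases Set.eq_empty_or_nonempty (W : Set (Spec (S.residueField s))) with h | ⟨z, hz⟩
    · exact Or.inr (Opens.ext h)
    · exact Or.inl (top_le_iff.1 fun w _ => by rw [Subsingleton.elim w z]; exact hz)
  ext b
  rcases hW with rfl | rfl
  · obtain ⟨b', rfl⟩ := hsurj b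
    exact congrArg (fun ψ => Scheme.Modules.Hom.app ψ ⊤ b') huv
  · exact AModX.eq_of_locally (M := Z) _ _ fun p hp => hp.elim

/-- Sections of the two sides on an integral fibre give triviality. -/
theorem triv_of_two_sections {k : Type u} [Field k] {V : Scheme.{u}} (v : V ⟶ Spec (CommRingCat.of k))
    [IsProper v] [GeometricallyIntegral v] {P P' : V.Modules} (hP : PicF.IsInvertible P) (hP' : PicF.IsInvertible P')
    (ψ : CohB1.tensorMod P P' ≅ Coh.structureModule V) {a : Γ(P, ⊤)} (ha : a ≠ 0) {a' : Γ(P', ⊤)} (ha' : a' ≠ 0) :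
    Triv P := by
  haveI : IsIntegral V := GeometricallyIntegral.isIntegral_of_subsingleton v
  have hne : locus a ⊓ locus a' ≠ ⊥ := by
    intro h
    obtain ⟨z, hz⟩ := Opens.ne_bot_iff_nonempty _ |>.1 (locus_ne_bot hP ha)
    obtain ⟨z', hz'⟩ := Opens.ne_bot_iff_nonempty _ |>.1 (locus_ne_bot hP' ha')
    obtain ⟨w, hw⟩ := nonempty_preirreducible_inter (locus a).isOpen (locus a').isOpen ⟨z, hz⟩ ⟨z', hz'⟩
    exact (Opens.ne_bot_iff_nonempty _).2 ⟨w, hw⟩ h
  let m := mulHom (ofSect a) (ofSect a')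
  have hloc : locus (one m) = locus a ⊓ locus a' := by
    refine Eq.trans ?_ (genLocus_mulHom hP hP' (ofSect a) (ofSect a'))
    show CohB1.genLocus _ (ofSect (one m)) = CohB1.genLocus _ m
    congr 1
    show ofSect (one (ofSect _)) = ofSect _
    rw [one_ofSect]
  have hm : one m ≠ 0 := by
    intro h
    refine hne (hloc.symm.trans ?_)
    refine bot_unique fun z hz => ?_
    obtain ⟨U, hzU, hU⟩ := mem_locus_iff.1 hz
    rw [h, map_zero] at hU
    have h01 := hU.coord_unique le_rfl (r := (0 : Γ(V, U))) (r' := 1) (by simp)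
    have : U = ⊥ := by
      rw [← V.basicOpen_of_isUnit (isUnit_one : IsUnit (1 : Γ(V, U))), ← h01, Scheme.basicOpen_zero]
    exact this ▸ hzU
  have hframe : IsFrame (one m) := isFrame_of_ne_zero ⟨ψ⟩
    (Groth.Agent.H23.Seesaw.isField_Γ v (Groth.Agent.H23.Rigid.bijective_appTop v)) hm
  have htop : locus a ⊓ locus a' = ⊤ := hloc.symm.trans (locus_eq_top_iff.2 hframe)
  exact triv_of_frame (locus_eq_top_iff.1 (top_le_iff.1 (htop.ge.trans inf_le_left)))

/-- Global sections as cohomology in degree zero. -/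
noncomputable def secEquiv (M : X.Modules) : Coh.HH X M 0 ≃+ Γ(M, ⊤) :=
  Sheaf.H.equiv₀ (Coh.toAb M) isTerminalTop

theorem secEquiv_smul (M : X.Modules) (r : Coh.Γtop X) (x : Coh.HH X M 0) :
    secEquiv M (r • x) = (show Γ(X, ⊤) from r) • secEquiv M x := by
  have h := (Sheaf.H.equiv₀_naturality isTerminalTop (Coh.smulAb M r) x).symm
  refine (show secEquiv M (r • x) = _ from h).trans ?_
  refine (Coh.smulAb_app _ _ _ _).trans ?_
  refine congrArg (fun c : Γ(X, ⊤) => c • secEquiv M x) ?_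
  show (X.presheaf.map (homOfLE le_top).op).hom r = r
  rw [show (homOfLE le_top).op = 𝟙 (Opposite.op (⊤ : X.Opens)) from rfl, X.presheaf.map_id]
  rfl

theorem fiberRank_eq_one {s : S} {a : Γ(CohIII.fiberMod f L s, ⊤)} (ha : IsFrame a)
    (h0 : Function.Bijective (f.fiberToSpecResidueField s).appTop) : CohIII.fiberRank f L 0 s = 1 := by
  let e := secEquiv (CohIII.fiberMod f L s)
  let T := Coh.toGlobal (X := f.fiber s) (A := S.residueField s) (f.fiberToSpecResidueField s)
  let m : S.residueField s →ₗ[S.residueField s] CohIII.fiberH f L s 0 :=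
    LinearMap.toSpanSingleton _ _ (e.symm a)
  have hm : Function.Bijective m := by
    have : ∀ c, e (m c) = (show Γ(f.fiber s, ⊤) from T c) • a := fun c => by
      refine (secEquiv_smul (CohIII.fiberMod f L s) (T c) (e.symm a)).trans ?_
      rw [e.apply_symm_apply]
    refine (Function.Bijective.of_comp_iff' e.bijective _).1 ?_
    rw [show ⇑e ∘ ⇑m = (fun r : Γ(f.fiber s, ⊤) => r • AModX.res _ le_rfl a) ∘ fun c => (show Γ(f.fiber s, ⊤) from T c) from
      funext fun c => (this c).trans (by simp [AModX.res_self])]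
    exact (ha ⊤ le_rfl).comp (Groth.Agent.H23.Seesaw.toGlobal_bijective (K := S.residueField s) _ h0)
  exact ((LinearEquiv.ofBijective m hm).finrank_eq).symm.trans (Module.finrank_self _)


theorem triv_of_frame_fibre {s : S} {V : S.Opens} (hs : s ∈ V) {σ : Γ(L, f ⁻¹ᵁ V)} (hσ : IsFrame σ) :
    IsFrame (toFibre f L hs σ) :=
  (isFrame_pullElt (f.fiberι s) hσ).res _

/-- Frames over the base give sections, the base change epimorphism and rank one. -/
theorem conditions_of_frame (hloc : ∀ y : S, ∃ V : S.Opens, y ∈ V ∧ ∃ t : Γ(L, f ⁻¹ᵁ V), IsFrame t) (s : S)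
    (h0 : Function.Bijective (f.fiberToSpecResidueField s).appTop) :
    Nontrivial (CohIII.fiberH f L s 0) ∧ Epi (bcFibre f L s) ∧ CohIII.fiberRank f L 0 s = 1 := by
  obtain ⟨V, hs, t, ht⟩ := hloc s
  have hfr := triv_of_frame_fibre f L hs ht
  have hr := fiberRank_eq_one f L hfr h0
  exact ⟨Module.nontrivial_of_finrank_pos (R := S.residueField s) (by unfold CohIII.fiberRank at hr; omega),
    epi_bcFibre f L hs t hfr h0, hr⟩

theorem exists_frame_of_pullback (L₀ : S.Modules) (hL₀ : PicF.IsInvertible L₀)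
    (e : L ≅ (Scheme.Modules.pullback f).obj L₀) (y : S) :
    ∃ V : S.Opens, y ∈ V ∧ ∃ t : Γ(L, f ⁻¹ᵁ V), IsFrame t := by
  obtain ⟨V, hy, ε, hε⟩ := InvX.exists_frame hL₀ y
  exact ⟨V, hy, _, (isFrame_pullElt f hε).map_iso e.symm⟩

theorem exists_frame_inverse (M : X.Modules) (ψ : CohB1.tensorMod L M ≅ Coh.structureModule X)
    (hloc : ∀ y : S, ∃ V : S.Opens, y ∈ V ∧ ∃ t : Γ(L, f ⁻¹ᵁ V), IsFrame t) (y : S) :
    ∃ V : S.Opens, y ∈ V ∧ ∃ t : Γ(M, f ⁻¹ᵁ V), IsFrame t := by
  obtain ⟨V, hy, t, ht⟩ := hloc y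
  exact ⟨V, hy, exists_frame_preimage V (triv_inverse ψ _ (triv_of_frame_preimage V ht))⟩

/-- The two sections and the epimorphism give a frame near the fibre. -/
theorem exists_frame_of_conditions [IsProper f] [GeometricallyIntegral f] (M : X.Modules) (hL : PicF.IsInvertible L)
    (hM : PicF.IsInvertible M) (ψ : CohB1.tensorMod L M ≅ Coh.structureModule X) (s : S)
    (hnL : Nontrivial (CohIII.fiberH f L s 0)) (hnM : Nontrivial (CohIII.fiberH f M s 0))
    (hepi : Epi (bcFibre f L s)) :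
    ∃ V : S.Opens, s ∈ V ∧ ∃ t : Γ(L, f ⁻¹ᵁ V), IsFrame t := by
  let p := f.fiberι s
  let v : f.fiber s ⟶ Spec (CommRingCat.of (S.residueField s)) := f.fiberToSpecResidueField s
  haveI : IsProper v := inferInstanceAs (IsProper (pullback.snd f (S.fromSpecResidueField s)))
  haveI : GeometricallyIntegral v := inferInstanceAs (GeometricallyIntegral (pullback.snd f (S.fromSpecResidueField s)))
  haveI : Nontrivial Γ(CohIII.fiberMod f L s, ⊤) := (secEquiv (CohIII.fiberMod f L s)).symm.toEquiv.nontrivial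
  haveI : Nontrivial Γ(CohIII.fiberMod f M s, ⊤) := (secEquiv (CohIII.fiberMod f M s)).symm.toEquiv.nontrivial
  obtain ⟨a, ha⟩ := exists_ne (0 : Γ(CohIII.fiberMod f L s, ⊤))
  obtain ⟨a', ha'⟩ := exists_ne (0 : Γ(CohIII.fiberMod f M s, ⊤))
  have hT : Triv (CohIII.fiberMod f L s) := triv_of_two_sections v (PicClLib.isInvertible_pullback _ hL)
    (PicClLib.isInvertible_pullback _ hM)
    ((Groth.Agent.H23.PicMul.pull p L M).some.symm ≪≫ (Scheme.Modules.pullback p).mapIso ψ ≪≫
      (PicClLib.nonempty_pullback_structureModule p).some) ha ha'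
  obtain ⟨V, hs, σ, hσ⟩ := exists_toFibre_ne_zero f L hepi inferInstance
  have hfr : IsFrame (toFibre f L hs σ) := isFrame_of_ne_zero hT
    (Groth.Agent.H23.Seesaw.isField_Γ v (Groth.Agent.H23.Rigid.bijective_appTop v)) hσ
  obtain ⟨W, _, hsW, hW⟩ := exists_frame_of_toFibre f L hL hs σ hfr
  exact ⟨W, hsW, _, hW⟩

theorem inverse_unique {L M D : X.Modules} (φ : CohB1.tensorMod L D ≅ Coh.structureModule X)
    (ψ : CohB1.tensorMod L M ≅ Coh.structureModule X) : Nonempty (M ≅ D) :=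
  let M' := Groth.Agent.H23.PicMul.comm (Coh.structureModule X) M
  ⟨(Groth.Agent.H23.PicMul.unit M).some.symm ≪≫ M'.some.symm ≪≫
    PicGrp.tensorModIso φ.symm (Iso.refl M) ≪≫
    PicGrp.tensorModIso (Groth.Agent.H23.PicMul.comm L D).some (Iso.refl M) ≪≫
    (Groth.Agent.H23.PicMul.assoc D L M).some ≪≫
    PicGrp.tensorModIso (Iso.refl D) ψ ≪≫ (Groth.Agent.H23.PicMul.unit D).some⟩

/-- An inverse of an invertible module is invertible. -/
theorem isInvertible_inverse {L M D : X.Modules} (hD : PicF.IsInvertible D)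
    (φ : CohB1.tensorMod L D ≅ Coh.structureModule X) (ψ : CohB1.tensorMod L M ≅ Coh.structureModule X) :
    PicF.IsInvertible M := by
  intro x
  obtain ⟨U, hx, ⟨e⟩⟩ := hD x
  obtain ⟨i⟩ : Nonempty (M ≅ D) := inverse_unique φ ψ
  exact ⟨U, hx, ⟨(Scheme.Modules.restrictFunctor U.ι).mapIso i ≪≫ e⟩⟩

end Groth.Agent.PicfLib.Seesaw
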