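import Mathlib

/-! Gluing closed subschemes that represent a Zariski local condition on Noetherian test schemes. -/

set_option autoImplicit false
set_option backward.isDefEq.respectTransparency false
set_option backward.isDefEq.respectTransparency.types false

universe u

open CategoryTheory CategoryTheory.Limits AlgebraicGeometry TopologicalSpace

namespace Groth.Agent.PicfLib.Seesaw

noncomputable section

variable {S : Scheme.{u}} (Pr : ∀ {T : Scheme.{u}}, (T ⟶ S) → Prop)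

/-- A closed subscheme of an open representing the condition there. -/
def Rep (U : S.Opens) : Prop :=
  ∃ (Z : Scheme.{u}) (i : Z ⟶ (U : Scheme.{u})), IsClosedImmersion i ∧ Pr (i ≫ U.ι) ∧
    ∀ (T : Scheme.{u}) [IsLocallyNoetherian T] (u : T ⟶ (U : Scheme.{u})), Pr (u ≫ U.ι) → ∃ u', u' ≫ i = u

/-- The opens with a representing closed subscheme. -/
abbrev RJ : Type u := {U : S.Opens // Rep (@Pr) U}

variable {Pr}

/-- The chosen subscheme. -/
def RJ.Z (U : RJ @Pr) : Scheme.{u} := U.2.choose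

/-- Its immersion. -/
def RJ.i (U : RJ @Pr) : U.Z ⟶ (U.1 : Scheme.{u}) := U.2.choose_spec.choose

instance (U : RJ @Pr) : IsClosedImmersion U.i := U.2.choose_spec.choose_spec.1

theorem RJ.pr (U : RJ @Pr) : Pr (U.i ≫ U.1.ι) := U.2.choose_spec.choose_spec.2.1

theorem RJ.lift (U : RJ @Pr) (T : Scheme.{u}) [IsLocallyNoetherian T] (u : T ⟶ (U.1 : Scheme.{u}))
    (h : Pr (u ≫ U.1.ι)) : ∃ u', u' ≫ U.i = u := U.2.choose_spec.choose_spec.2.2 T u h

variable (hcov : ∀ y : S, ∃ U : S.Opens, y ∈ U ∧ Rep (@Pr) U)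
variable (hpull : ∀ {T T' : Scheme.{u}} (l : T' ⟶ T) (u : T ⟶ S), Pr u → Pr (l ≫ u))

include hpull in
theorem Rep.of_le [IsLocallyNoetherian S] {U V : S.Opens} (h : V ≤ U) (hU : Rep (@Pr) U) : Rep (@Pr) V := by
  obtain ⟨Z, i, hi, hp, hl⟩ := hU
  refine ⟨pullback i (S.homOfLE h), pullback.snd _ _, inferInstance, ?_, fun T _ u hu => ?_⟩
  · have := hpull (pullback.fst i (S.homOfLE h)) _ hp
    rwa [pullback.condition_assoc, Scheme.homOfLE_ι] at this
  · obtain ⟨u', hu'⟩ := hl T (u ≫ S.homOfLE h) (by rwa [Category.assoc, Scheme.homOfLE_ι])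
    exact ⟨pullback.lift u' u hu', pullback.lift_snd _ _ _⟩

theorem isLocallyNoetherian_Z [IsLocallyNoetherian S] (U : RJ @Pr) : IsLocallyNoetherian U.Z :=
  LocallyOfFiniteType.isLocallyNoetherian U.i

/-- The transition map. -/
def RJ.map [IsLocallyNoetherian S] {V U : RJ @Pr} (h : V.1 ≤ U.1) : V.Z ⟶ U.Z :=
  haveI := isLocallyNoetherian_Z V
  (U.lift V.Z (V.i ≫ S.homOfLE h) (by rw [Category.assoc, Scheme.homOfLE_ι]; exact V.pr)).choose

theorem RJ.map_i [IsLocallyNoetherian S] {V U : RJ @Pr} (h : V.1 ≤ U.1) : RJ.map h ≫ U.i = V.i ≫ S.homOfLE h :=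
  haveI := isLocallyNoetherian_Z V
  (U.lift V.Z (V.i ≫ S.homOfLE h) (by rw [Category.assoc, Scheme.homOfLE_ι]; exact V.pr)).choose_spec

include hpull in
theorem RJ.isPullback [IsLocallyNoetherian S] {V U : RJ @Pr} (h : V.1 ≤ U.1) :
    IsPullback (RJ.map h) V.i U.i (S.homOfLE h) := by
  let P := pullback U.i (S.homOfLE h)
  haveI := isLocallyNoetherian_Z V
  haveI : IsLocallyNoetherian P := LocallyOfFiniteType.isLocallyNoetherian (pullback.snd U.i (S.homOfLE h))
  have hpP : Pr (pullback.snd U.i (S.homOfLE h) ≫ V.1.ι) := by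
    have := hpull (pullback.fst U.i (S.homOfLE h)) _ U.pr
    rwa [pullback.condition_assoc, Scheme.homOfLE_ι] at this
  obtain ⟨a, ha⟩ := V.lift P _ hpP
  let b : V.Z ⟶ P := pullback.lift (RJ.map h) V.i (RJ.map_i h)
  have h1 : b ≫ a = 𝟙 _ := by rw [← cancel_mono V.i, Category.assoc, ha, pullback.lift_snd, Category.id_comp]
  have h2 : a ≫ b = 𝟙 _ := by
    rw [← cancel_mono (pullback.snd U.i (S.homOfLE h)), Category.assoc, pullback.lift_snd, ha, Category.id_comp]
  exact IsPullback.of_iso_pullback ⟨RJ.map_i h⟩ ⟨b, a, h1, h2⟩ (pullback.lift_fst _ _ _) (pullback.lift_snd _ _ _)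

include hcov in
theorem exists_RJ (y : S) : ∃ U : RJ @Pr, y ∈ U.1 := by
  obtain ⟨U, hy, hU⟩ := hcov y
  exact ⟨⟨U, hU⟩, hy⟩

section Glued

variable [IsLocallyNoetherian S]

/-- The cover by the representing opens. -/
abbrev rcov (_hpull : ∀ {T T' : Scheme.{u}} (l : T' ⟶ T) (u : T ⟶ S), Pr u → Pr (l ≫ u)) : S.OpenCover where
  I₀ := RJ @Pr
  X U := U.1
  f U := U.1.ι
  mem₀ := by
    rw [Scheme.presieve₀_mem_precoverage_iff]
    refine ⟨fun x => ?_, inferInstance⟩
    obtain ⟨U, hx⟩ := exists_RJ hcov x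
    exact ⟨U, ⟨x, hx⟩, rfl⟩

instance : Category (rcov hcov hpull).I₀ := inferInstanceAs (Category (RJ @Pr))

instance : Quiver.IsThin (rcov hcov hpull).I₀ := fun _ _ => inferInstanceAs (Subsingleton (ULift (PLift (_ ≤ _))))

instance : (rcov hcov hpull).LocallyDirected where
  trans {V W} h := S.homOfLE h.le
  trans_id W := S.homOfLE_rfl _
  trans_comp h h' := (S.homOfLE_homOfLE _ _).symm
  w h := S.homOfLE_ι _
  directed {V W} x := by
    let a := (pullback.fst V.1.ι W.1.ι ≫ V.1.ι) x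
    have haV : a ∈ V.1 := (pullback.fst V.1.ι W.1.ι x).2
    have haW : a ∈ W.1 := by
      unfold a; rw [pullback.condition]
      exact (pullback.snd V.1.ι W.1.ι x).2
    let K : RJ @Pr := ⟨V.1 ⊓ W.1, V.2.of_le hpull inf_le_left⟩
    refine ⟨K, (homOfLE (show K ≤ V from (inf_le_left : V.1 ⊓ W.1 ≤ V.1)) : K ⟶ V), (homOfLE (show K ≤ W from (inf_le_right : V.1 ⊓ W.1 ≤ W.1)) : K ⟶ W),
      ⟨a, haV, haW⟩, ?_⟩
    apply (pullback.fst V.1.ι W.1.ι ≫ V.1.ι).isOpenEmbedding.injective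
    rw [← Scheme.Hom.comp_apply, pullback.lift_fst_assoc, Scheme.homOfLE_ι]
    rfl

/-- The subschemes as a functor. -/
def rfun : (rcov hcov hpull).I₀ ⥤ Scheme.{u} where
  obj U := RJ.Z (Pr := @Pr) U
  map {V U} h := RJ.map (Pr := @Pr) (V := V) (U := U) h.le
  map_id U := by
    rw [← cancel_mono (RJ.i (Pr := @Pr) U), RJ.map_i, Scheme.homOfLE_rfl]
    exact (Category.comp_id _).trans (Category.id_comp _).symm
  map_comp {A B C} h h' := by
    rw [← cancel_mono (RJ.i (Pr := @Pr) C), Category.assoc, RJ.map_i, RJ.map_i, reassoc_of% (RJ.map_i (Pr := @Pr) (V := A) (U := B) h.le),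
      Scheme.homOfLE_homOfLE]

/-- The gluing datum. -/
def rgd : Scheme.Cover.RelativeGluingData (rcov hcov hpull) where
  functor := rfun hcov hpull
  natTrans :=
    { app := fun U => RJ.i (Pr := @Pr) U
      naturality := fun V U h => RJ.map_i (Pr := @Pr) (V := V) (U := U) h.le }
  equifibered := fun {V U} h => RJ.isPullback (Pr := @Pr) hpull (V := V) (U := U) h.le

instance : ((rgd hcov hpull).functor ⋙ Scheme.forget).IsLocallyDirected :=
  Scheme.Cover.RelativeGluingData.instIsLocallyDirectedI₀CompFunctorForgetOfIsThin ..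

include hpull hcov in
theorem exists_glued
    (hloc : ∀ {T : Scheme.{u}} (u : T ⟶ S), (∀ t : T, ∃ V : T.Opens, t ∈ V ∧ Pr (V.ι ≫ u)) → Pr u) :
    ∃ (Z : Scheme.{u}) (ι : Z ⟶ S), IsClosedImmersion ι ∧
      ∀ (T : Scheme.{u}) (u : T ⟶ S), IsLocallyNoetherian T → ((∃ u', u' ≫ ι = u) ↔ Pr u) := by
  let d := rgd hcov hpull
  have hι : ∀ U : RJ @Pr, colimit.ι d.functor U ≫ d.toBase = U.i ≫ U.1.ι := fun U => d.ι_toBase U
  haveI hcl : IsClosedImmersion d.toBase :=
    IsZariskiLocalAtTarget.of_openCover (rcov hcov hpull) fun U => by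
      refine (MorphismProperty.cancel_left_of_respectsIso @IsClosedImmersion
        (d.isPullback_natTrans_ι_toBase U).flip.isoPullback.hom _).1 ?_
      show IsClosedImmersion ((d.isPullback_natTrans_ι_toBase U).flip.isoPullback.hom ≫ pullback.snd d.toBase U.1.ι)
      rw [IsPullback.isoPullback_hom_snd]
      exact inferInstanceAs (IsClosedImmersion (RJ.i U))
  refine ⟨d.glued, d.toBase, hcl, fun T u hT => ⟨?_, fun hu => ?_⟩⟩
  · rintro ⟨u', rfl⟩
    refine hpull u' _ (hloc _ fun z => ?_)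
    obtain ⟨U, hU⟩ := exists_RJ hcov (d.toBase z)
    refine ⟨d.toBase ⁻¹ᵁ U.1, hU, ?_⟩
    have hsq := d.isPullback_natTrans_ι_toBase U
    let m := hsq.lift (d.toBase ∣_ U.1) (d.toBase ⁻¹ᵁ U.1).ι (morphismRestrict_ι _ _)
    have h1 : m ≫ U.i = d.toBase ∣_ U.1 := hsq.lift_fst _ _ _
    have := hpull m _ U.pr
    rwa [reassoc_of% h1, morphismRestrict_ι] at this
  · have hex : ∀ t : T, ∃ U : RJ @Pr, u t ∈ U.1 := fun t => exists_RJ hcov (u t)
    choose U hU using hex
    let V : T → T.Opens := fun t => u ⁻¹ᵁ (U t).1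
    have hlift : ∀ t, ∃ u', u' ≫ d.toBase = (V t).ι ≫ u := fun t => by
      obtain ⟨w, hw⟩ := (U t).lift (V t) (u ∣_ (U t).1) (by rw [morphismRestrict_ι]; exact hpull _ _ hu)
      exact ⟨w ≫ colimit.ι d.functor (U t), by rw [Category.assoc, hι, reassoc_of% hw, morphismRestrict_ι]⟩
    choose u' hu' using hlift
    let 𝒰 := T.openCoverOfIsOpenCover V (TopologicalSpace.IsOpenCover.mk (eq_top_iff.2 fun t _ =>
      Opens.mem_iSup.2 ⟨t, hU t⟩))
    have hcompat : ∀ a b : T, pullback.fst (V a).ι (V b).ι ≫ u' a = pullback.snd (V a).ι (V b).ι ≫ u' b := fun a b => by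
      rw [← cancel_mono d.toBase, Category.assoc, Category.assoc, hu', hu', pullback.condition_assoc]
    refine ⟨𝒰.glueMorphisms u' hcompat, 𝒰.hom_ext _ _ fun t => ?_⟩
    rw [← Category.assoc, Scheme.Cover.ι_glueMorphisms]
    exact hu' t

end Glued

end

end Groth.Agent.PicfLib.Seesaw
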