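import Groth.Agent.H23.SeesawGlobal
import Groth.Agent.S16759
import Groth.Agent.PicfLib.Seesaw.Glue

/-! The closed subscheme over which a line bundle comes from the base, locally on the base. -/

set_option autoImplicit false
set_option linter.style.haveILetI false
set_option linter.unusedSectionVars false
set_option backward.isDefEq.respectTransparency false
set_option backward.isDefEq.respectTransparency.types false

universe u

open CategoryTheory CategoryTheory.Limits AlgebraicGeometry TopologicalSpace Opposite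

namespace Groth.Agent.PicfLib.Seesaw

open Groth.Agent.InvX Groth.Agent.H23.TrivBasic Groth.Agent.H23.SeesawGlobal
open Groth.Agent.H23.Seesaw (specAlg FibreTriv FibreH0)

variable {X S : Scheme.{u}} (f : X ⟶ S) (L : X.Modules)

/-- The module is trivial over the base, locally on a test scheme. -/
def LocTriv {T : Scheme.{u}} (u : T ⟶ S) : Prop :=
  ∀ t : T, ∃ V : T.Opens, t ∈ V ∧ Triv ((Scheme.Modules.pullback (pullback.fst f (V.ι ≫ u))).obj L)

variable {f L}

theorem triv_left_iff {T T' : Scheme.{u}} (h : T ⟶ S) (k : T' ⟶ T) :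
    Triv ((Scheme.Modules.pullback (pullback.fst (pullback.snd f h) k)).obj
        ((Scheme.Modules.pullback (pullback.fst f h)).obj L)) ↔
      Triv ((Scheme.Modules.pullback (pullback.fst f (k ≫ h))).obj L) := by
  rw [triv_comp_iff]
  exact ⟨triv_of_factor (pullbackLeftPullbackSndIso f h k).inv
      (by rw [Iso.inv_comp_eq, pullbackLeftPullbackSndIso_hom_fst]),
    triv_of_factor (pullbackLeftPullbackSndIso f h k).hom (pullbackLeftPullbackSndIso_hom_fst f h k)⟩

theorem triv_of_frame_preimage (U : S.Opens) {s : Γ(L, f ⁻¹ᵁ U)} (hs : IsFrame s) :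
    Triv ((Scheme.Modules.pullback (pullback.fst f U.ι)).obj L) := by
  obtain ⟨φ⟩ := nonempty_iso_of_isFrame hs
  refine triv_of_factor (IsOpenImmersion.lift (f ⁻¹ᵁ U).ι (pullback.fst f U.ι) ?_) (IsOpenImmersion.lift_fac _ _ _)
    (Triv.of_iso ((Scheme.Modules.restrictFunctorIsoPullback (f ⁻¹ᵁ U).ι).app _) ⟨φ⟩)
  rintro _ ⟨w, rfl⟩
  rw [Scheme.Opens.range_ι]
  show f (pullback.fst f U.ι w) ∈ U
  rw [← Scheme.Hom.comp_apply, pullback.condition, Scheme.Hom.comp_apply]
  exact (pullback.snd f U.ι w).2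

theorem exists_frame_preimage (U : S.Opens) (h : Triv ((Scheme.Modules.pullback (pullback.fst f U.ι)).obj L)) :
    ∃ s : Γ(L, f ⁻¹ᵁ U), IsFrame s := by
  obtain ⟨s, hs⟩ := exists_frame_of_triv _ h
  have hle : f ⁻¹ᵁ U ≤ (pullback.fst f U.ι).opensRange := fun z hz => by
    obtain ⟨w, hw, -⟩ := Scheme.Pullback.exists_preimage_pullback (f := f) (g := U.ι) z ⟨f z, hz⟩ rfl
    exact ⟨w, hw⟩
  exact ⟨_, hs.res hle⟩

variable (f L)

theorem locTriv_pull {T T' : Scheme.{u}} (l : T' ⟶ T) (u : T ⟶ S) (h : LocTriv f L u) : LocTriv f L (l ≫ u) := by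
  intro t
  obtain ⟨V, hV, hT⟩ := h (l t)
  exact ⟨l ⁻¹ᵁ V, hV, triv_pullback_of_factor (l ∣_ V) (morphismRestrict_ι_assoc l V u) hT⟩

theorem locTriv_of_local {T : Scheme.{u}} (u : T ⟶ S)
    (h : ∀ t : T, ∃ V : T.Opens, t ∈ V ∧ LocTriv f L (V.ι ≫ u)) : LocTriv f L u := by
  intro t
  obtain ⟨V, hV, hT⟩ := h t
  obtain ⟨W, hW, hT'⟩ := hT ⟨t, hV⟩
  refine ⟨V.ι ''ᵁ W, ⟨⟨t, hV⟩, hW, rfl⟩, ?_⟩
  refine triv_pullback_of_factor (IsOpenImmersion.lift (W.ι ≫ V.ι) (V.ι ''ᵁ W).ι ?_) ?_ hT'
  · rintro _ ⟨a, rfl⟩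
    obtain ⟨b, hb, e⟩ := a.2
    exact ⟨⟨b, hb⟩, e⟩
  · rw [← Category.assoc, ← Category.assoc, Category.assoc _ W.ι V.ι, IsOpenImmersion.lift_fac]

/-- The global functions of the fibres are the constants. -/
theorem finrank_fiber [IsProper f] [GeometricallyIntegral f] (y : S) :
    Module.finrank (S.residueField y) Γ(f.fiber y, ⊤) = 1 := by
  haveI : IsProper (f.fiberToSpecResidueField y) :=
    inferInstanceAs (IsProper (pullback.snd f (S.fromSpecResidueField y)))
  haveI : GeometricallyIntegral (f.fiberToSpecResidueField y) :=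
    inferInstanceAs (GeometricallyIntegral (pullback.snd f (S.fromSpecResidueField y)))
  have h : Function.Bijective (algebraMap (S.residueField y) Γ(f.fiber y, ⊤)) :=
    (Groth.Agent.H23.Rigid.bijective_appTop (k := S.residueField y) (f.fiberToSpecResidueField y)).comp
      (ConcreteCategory.bijective_of_isIso (Scheme.ΓSpecIso (S.residueField y)).inv)
  rw [← (LinearEquiv.ofBijective (Algebra.linearMap (S.residueField y) Γ(f.fiber y, ⊤)) h).finrank_eq,
    Module.finrank_self]

theorem bijective_app [IsProper f] [Flat f] [GeometricallyIntegral f] [IsLocallyNoetherian S] (W : S.Opens) :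
    Function.Bijective (f.app W) :=
  Groth.Agent.S16759.bijective_app f (finrank_fiber f) W

section Forms

variable {A : Type u} [CommRing A] {Q : Type u} [AddCommGroup Q] [Module A Q] {B : Type u} [CommRing B] [Algebra A B]

theorem exists_form_of_gen {q₀ : Q} {c : A} (hq : ∀ q : Q, ∃ a : A, c • q = a • q₀) (v : B)
    (hv : ∀ a : A, a • q₀ = 0 → algebraMap A B a * v = 0) :
    ∃ φ : Q →ₗ[A] B, φ q₀ = algebraMap A B c * v := by
  choose a ha using hq
  have hcongr : ∀ b b' : A, b • q₀ = b' • q₀ → algebraMap A B b * v = algebraMap A B b' * v := fun b b' h => by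
    have := hv (b - b') (by rw [sub_smul, h, sub_self])
    rwa [map_sub, sub_mul, sub_eq_zero] at this
  refine ⟨{ toFun := fun q => algebraMap A B (a q) * v, map_add' := fun q q' => ?_, map_smul' := fun r q => ?_ },
    hcongr _ _ (ha q₀).symm⟩
  · rw [← add_mul, ← map_add]
    exact hcongr _ _ (by rw [← ha, add_smul, ← ha, ← ha, smul_add])
  · rw [RingHom.id_apply, Algebra.smul_def, ← mul_assoc, ← map_mul]
    exact hcongr _ _ (by rw [← ha, mul_smul, ← ha, smul_comm])

theorem mul_form_eq_zero {q₀ : Q} {c : A} (hq : ∀ q : Q, ∃ a : A, c • q = a • q₀)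
    (hc : IsUnit (algebraMap A B c)) {a : A} (ha : a • q₀ = 0) (ψ : Q →ₗ[A] B) (q : Q) :
    algebraMap A B a * ψ q = 0 := by
  obtain ⟨b, hb⟩ := hq q
  rw [← hc.mul_right_eq_zero, ← mul_assoc, ← map_mul, ← Algebra.smul_def, ← ψ.map_smul, mul_comm, mul_smul, hb,
    smul_comm, ha, smul_zero, map_zero]

end Forms

section Affine

variable {A : Type u} [CommRing A] [IsNoetherianRing A] {Y : Scheme.{u}} [Y.Over (Spec (CommRingCat.of A))]
  [IsProper (Y ↘ Spec (CommRingCat.of A))] [Flat (Y ↘ Spec (CommRingCat.of A))]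
  [GeometricallyIntegral (Y ↘ Spec (CommRingCat.of A))] {M : Y.Modules}

local notation "π" => (Y ↘ Spec (CommRingCat.of A))

theorem algebraMap_eq_zero_of_forms {Q : ModuleCat.{u} A} {e : (Q →ₗ[A] A) ≃+ Γ(M, ⊤)}
    (hQ : Groth.Agent.H23.SecRep.IsRep M Q e) {B : Type u} [CommRing B] [IsNoetherianRing B] [Algebra A B]
    (hT : Triv ((Scheme.Modules.pullback (pullback.fst π (specAlg A B))).obj M)) {a : A}
    (ha : ∀ (ψ : Q →ₗ[A] B) (q : Q), algebraMap A B a * ψ q = 0) : algebraMap A B a = 0 := by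
  obtain ⟨eB, he1, -⟩ := hQ B _ _ _ (IsPullback.of_hasPullback π (specAlg A B))
  obtain ⟨s, hs⟩ := hT.exists_frame
  let v := pullback.snd π (specAlg A B)
  haveI : IsNoetherianRing (CommRingCat.of B) := ‹IsNoetherianRing B›
  have hinj : Function.Injective (Coh.toGlobal v) :=
    (Groth.Agent.H23.Seesaw.toGlobal_bijective v (bijective_app v ⊤)).1
  refine hinj (((hs.coord_unique le_rfl (r' := 0) ?_)).trans (map_zero _).symm)
  rw [AModX.res_self, zero_smul]
  have h0 : LinearMap.mulLeft A (algebraMap A B a) ∘ₗ eB.symm s = 0 := LinearMap.ext fun q => ha _ q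
  refine ((congrArg (_ • ·) (eB.apply_symm_apply s).symm).trans (he1 _ _).symm).trans ?_
  exact (congrArg eB h0).trans (map_zero eB)

/-- A section without annihilator gives a frame near a trivial fibre. -/
theorem exists_frame_near (hM : PicF.IsInvertible M) (z : ↥(Spec (CommRingCat.of A))) (hT : FibreTriv M z)
    (w : Γ(M, ⊤)) (hw : ∀ a : A, (show Γ(Y, ⊤) from Coh.toGlobal π a) • w = 0 → a = 0) :
    ∃ U : (Spec (CommRingCat.of A)).Opens, z ∈ U ∧ ∃ s : Γ(M, π ⁻¹ᵁ U), IsFrame s := by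
  obtain ⟨Q, _, e, hQ⟩ := Groth.Agent.H23.Seesaw.exists_rep (A := A) M hM
  have h0 : FibreH0 Y z := Groth.Agent.H23.Rigid.bijective_appTop _
  obtain ⟨hl1, hl2⟩ := Groth.Agent.H23.Seesaw.line_of_fibreTriv hQ z h0 hT
  obtain ⟨q, c, hc, hq⟩ := Groth.Agent.H23.SeesawMod.exists_generator z
    (Groth.Agent.H23.SeesawMod.fibreRank_eq_one z hl1 hl2)
  haveI : IsIso (specAlg A A) := by
    show IsIso (Spec.map (CommRingCat.ofHom (algebraMap A A)))
    rw [Algebra.algebraMap_self, CommRingCat.ofHom_id, Spec.map_id]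
    infer_instance
  obtain ⟨eA, he1, he2⟩ := hQ A Y (𝟙 Y) π (IsPullback.of_horiz_isIso ⟨by simp⟩)
  have hid : ∀ g : Q →ₗ[A] A, eA g = InvX.pullElt (𝟙 Y) (e g) := fun g => by
    have : Algebra.linearMap A A ∘ₗ g = g := LinearMap.ext fun _ => rfl
    exact (congrArg eA this.symm).trans (he2 g)
  have hkey : ∀ a : A, a • q = 0 → algebraMap A A a * c = 0 := by
    intro a ha
    refine hw _ (e.symm.injective (eA.injective ?_))
    have hzero : LinearMap.mulLeft A (a * c) ∘ₗ e.symm w = 0 := LinearMap.ext fun r => by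
      obtain ⟨b, hb⟩ := hq r
      show a * c * e.symm w r = 0
      rw [mul_assoc, ← smul_eq_mul c, ← map_smul, hb, ← smul_eq_mul a, ← map_smul, smul_comm, ha, smul_zero,
        map_zero]
    have h := (he1 (a * c) (e.symm w)).symm.trans ((congrArg eA hzero).trans (map_zero eA))
    rw [hid, e.apply_symm_apply] at h
    rw [hid, e.apply_symm_apply, map_zero, map_zero, InvX.pullElt_smul]
    refine Eq.trans ?_ h
    congr 1
  obtain ⟨g, hg⟩ := exists_form_of_gen hq c hkey
  obtain ⟨U, hz, hU⟩ := Groth.Agent.H23.Seesaw.exists_frame_of_form hM hQ z h0 hT g fun h => by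
    have h3 := LinearMap.congr_fun h q
    simp only [LinearMap.comp_apply, Algebra.linearMap_apply, LinearMap.zero_apply, hg,
      Ideal.algebraMap_residueField_eq_zero] at h3
    exact ((Ideal.IsPrime.mem_or_mem inferInstance h3).elim hc hc)
  exact ⟨U, hz, _, hU⟩

omit [IsNoetherianRing A] [IsProper (Y ↘ Spec (CommRingCat.of A))] [Flat (Y ↘ Spec (CommRingCat.of A))]
  [GeometricallyIntegral (Y ↘ Spec (CommRingCat.of A))] in
theorem triv_inverse {D : Y.Modules} (φ : CohB1.tensorMod M D ≅ Coh.structureModule Y) {Z : Scheme.{u}}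
    (p : Z ⟶ Y) (hT : Triv ((Scheme.Modules.pullback p).obj M)) : Triv ((Scheme.Modules.pullback p).obj D) := by
  refine Triv.of_iso ((Groth.Agent.H23.PicMul.unit _).some) ?_
  refine Triv.of_iso (PicGrp.tensorModIso (Iso.refl _) hT.some) ?_
  refine Triv.of_iso ((Groth.Agent.H23.PicMul.comm _ _).some) ?_
  refine Triv.of_iso ((Groth.Agent.H23.PicMul.pull p M D).some) ?_
  exact Triv.pullback p ⟨φ⟩

/-- The equations of the trivial locus near a point. -/
theorem exists_ideal (hM : PicF.IsInvertible M) (x : ↥(Spec (CommRingCat.of A))) :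
    ∃ f : A, f ∉ x.asIdeal ∧ ∃ I : Ideal A,
      (∀ (B : Type u) [CommRing B] [IsNoetherianRing B] [Algebra A B], IsUnit (algebraMap A B f) →
        Triv ((Scheme.Modules.pullback (pullback.fst π (specAlg A B))).obj M) → ∀ a ∈ I, algebraMap A B a = 0) ∧
      ∀ (B : Type u) [CommRing B] [IsNoetherianRing B] [Algebra A B], IsUnit (algebraMap A B f) →
        (∀ a ∈ I, algebraMap A B a = 0) → LocTriv π M (specAlg A B) := by
  obtain ⟨D, hD, ⟨φ⟩⟩ := Groth.Agent.H23.PicInv.exists_inverse hM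
  obtain ⟨Q, hfin, e, hQ⟩ := Groth.Agent.H23.Seesaw.exists_rep (A := A) M hM
  obtain ⟨Q', hfin', e', hQ'⟩ := Groth.Agent.H23.Seesaw.exists_rep (A := A) D hD
  by_cases hF : FibreTriv M x
  · have h0 : FibreH0 Y x := Groth.Agent.H23.Rigid.bijective_appTop _
    have hgen : ∀ (N : Y.Modules) (R : ModuleCat.{u} A) [Module.Finite A R] (eR : (R →ₗ[A] A) ≃+ Γ(N, ⊤)),
        Groth.Agent.H23.SecRep.IsRep N R eR → FibreTriv N x →
        ∃ q₀ : R, ∃ c ∉ x.asIdeal, ∀ q : R, ∃ a : A, c • q = a • q₀ := fun N R _ eR hR hN =>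
      Groth.Agent.H23.SeesawMod.exists_generator x (Groth.Agent.H23.SeesawMod.fibreRank_eq_one x
        (Groth.Agent.H23.Seesaw.line_of_fibreTriv hR x h0 hN).1
        (Groth.Agent.H23.Seesaw.line_of_fibreTriv hR x h0 hN).2)
    obtain ⟨q, c, hc, hq⟩ := hgen M Q e hQ hF
    obtain ⟨q', c', hc', hq'⟩ := hgen D Q' e' hQ' (triv_inverse φ _ hF)
    refine ⟨c * c', fun h => (Ideal.IsPrime.mem_or_mem inferInstance h).elim hc hc',
      LinearMap.ker (LinearMap.toSpanSingleton A Q q) ⊔ LinearMap.ker (LinearMap.toSpanSingleton A Q' q'),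
      fun B _ _ _ hu hT a ha => ?_, fun B _ _ _ hu hI z => ?_⟩
    · rw [map_mul, IsUnit.mul_iff] at hu
      refine RingHom.mem_ker.1 ((sup_le (fun b hb => ?_) (fun b hb => ?_) :
        LinearMap.ker (LinearMap.toSpanSingleton A Q q) ⊔ LinearMap.ker (LinearMap.toSpanSingleton A Q' q') ≤
          RingHom.ker (algebraMap A B)) ha)
      · exact algebraMap_eq_zero_of_forms hQ hT (mul_form_eq_zero hq hu.1 (LinearMap.mem_ker.1 hb))
      · exact algebraMap_eq_zero_of_forms hQ' (triv_inverse φ _ hT)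
          (mul_form_eq_zero hq' hu.2 (LinearMap.mem_ker.1 hb))
    · rw [map_mul, IsUnit.mul_iff] at hu
      let x' : ↥(Spec (CommRingCat.of A)) := specAlg A B z
      have hsupp : ∀ (R : ModuleCat.{u} A) [Module.Finite A R] (q₀ : R),
          (∀ a : A, a • q₀ = 0 → algebraMap A B a = 0) → x' ∈ Module.support A R := fun R _ q₀ hq₀ =>
        Module.mem_support_iff_exists_annihilator.2 ⟨q₀, fun a ha => by
          show algebraMap A B a ∈ z.asIdeal
          rw [hq₀ a ((Submodule.mem_annihilator_span_singleton q₀ a).1 ha)]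
          exact z.asIdeal.zero_mem⟩
      have hq0 : ∀ a : A, a • q = 0 → algebraMap A B a = 0 := fun a ha =>
        hI a (Ideal.mem_sup_left (LinearMap.mem_ker.2 ha))
      have hq0' : ∀ a : A, a • q' = 0 → algebraMap A B a = 0 := fun a ha =>
        hI a (Ideal.mem_sup_right (LinearMap.mem_ker.2 ha))
      have hx' : FibreTriv M x' := (Groth.Agent.H23.Seesaw.fibreTriv_iff_support hM hD φ hQ hQ' x').2
        ⟨hsupp Q q hq0, hsupp Q' q' hq0'⟩
      have hFT : FieldTriv π M x' := fieldTriv_of_point π hM x'.asIdeal.ResidueField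
        (specAlg A x'.asIdeal.ResidueField) (Groth.Agent.H23.Seesaw.range_specAlg x' _) hx'
      obtain ⟨eB, he1, -⟩ := hQ B _ _ _ (IsPullback.of_hasPullback π (specAlg A B))
      obtain ⟨ψ, hψ⟩ := exists_form_of_gen hq (1 : B) fun a ha => by rw [hq0 a ha, zero_mul]
      obtain ⟨U, hz, s, hs⟩ := exists_frame_near (A := B) (Y := chart π B (specAlg A B))
        (M := chartMod π M B (specAlg A B)) (PicClLib.isInvertible_pullback _ hM) z
        (fibreTriv_chart π B (specAlg A B) hFT) (eB ψ) fun b hb => by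
          have h := LinearMap.congr_fun (eB.injective (((he1 b ψ).trans hb).trans (map_zero eB).symm)) q
          simp only [LinearMap.comp_apply, LinearMap.mulLeft_apply, LinearMap.zero_apply, hψ, mul_one] at h
          exact (hu.1.mul_left_eq_zero).1 h
      exact ⟨U, hz, (triv_left_iff _ _).1 (triv_of_frame_preimage U hs)⟩
  · have hsupp : x ∉ Module.support A Q ∨ x ∉ Module.support A Q' := by
      rw [← not_and_or]
      exact fun h => hF ((Groth.Agent.H23.Seesaw.fibreTriv_iff_support hM hD φ hQ hQ' x).2 h)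
    have key : ∃ g : A, g ∉ x.asIdeal ∧ ∀ (B : Type u) [CommRing B] [IsNoetherianRing B] [Algebra A B],
        Triv ((Scheme.Modules.pullback (pullback.fst π (specAlg A B))).obj M) → algebraMap A B g = 0 := by
      rcases hsupp with h | h <;> rw [Module.mem_support_iff_of_finite, SetLike.not_le_iff_exists] at h <;>
        obtain ⟨g, hg, hgx⟩ := h
      · refine ⟨g, hgx, fun B _ _ _ hT => algebraMap_eq_zero_of_forms hQ hT fun ψ q => ?_⟩
        rw [← Algebra.smul_def, ← map_smul, Module.mem_annihilator.1 hg q, map_zero]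
      · refine ⟨g, hgx, fun B _ _ _ hT => algebraMap_eq_zero_of_forms hQ' (triv_inverse φ _ hT) fun ψ q => ?_⟩
        rw [← Algebra.smul_def, ← map_smul, Module.mem_annihilator.1 hg q, map_zero]
    obtain ⟨g, hgx, hg⟩ := key
    refine ⟨g, hgx, ⊤, fun B _ _ _ hu hT a _ => ?_, fun B _ _ _ _ hI z => ?_⟩
    · rw [hg B hT] at hu
      haveI := isUnit_zero_iff.1 hu
      rw [← mul_one (algebraMap A B a), ← isUnit_zero_iff.1 hu, mul_zero]
    · exact absurd ((Ideal.eq_top_iff_one _).2 (by rw [← map_one (algebraMap A B), hI 1 trivial]; exact z.asIdeal.zero_mem))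
        z.isPrime.ne_top

end Affine

/-- The trivial locus exists near every point of the base. -/
theorem exists_rep_near [IsProper f] [Flat f] [GeometricallyIntegral f] [IsLocallyNoetherian S]
    (hL : PicF.IsInvertible L) (y : S) :
    ∃ U : S.Opens, y ∈ U ∧ Rep (fun {T} (u : T ⟶ S) => LocTriv f L u) U := by
  obtain ⟨A, _, _, g, _, x, rfl⟩ := exists_chart y
  obtain ⟨r, hr, I, hnec, hsuf⟩ := exists_ideal (M := chartMod f L A g) (PicClLib.isInvertible_pullback _ hL) x
  let Ar := Localization.Away r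
  haveI : IsNoetherianRing Ar := IsLocalization.isNoetherianRing (Submonoid.powers r) Ar inferInstance
  let J : Ideal Ar := I.map (algebraMap A Ar)
  haveI : IsOpenImmersion (specAlg A Ar) := IsOpenImmersion.of_isLocalization r
  let h := specAlg A Ar ≫ g
  let i₀ : Spec (CommRingCat.of (Ar ⧸ J)) ⟶ Spec (CommRingCat.of Ar) :=
    Spec.map (CommRingCat.ofHom (Ideal.Quotient.mk J))
  haveI : IsClosedImmersion i₀ := IsClosedImmersion.spec_of_surjective _ Ideal.Quotient.mk_surjective
  refine ⟨h.opensRange, ?_, _, i₀ ≫ h.isoOpensRange.hom, inferInstance, ?_, fun T _ u hu => ?_⟩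
  · obtain ⟨a, ha⟩ : (x : PrimeSpectrum A) ∈ Set.range (PrimeSpectrum.comap (algebraMap A Ar)) := by
      rw [PrimeSpectrum.localization_away_comap_range Ar r]
      exact hr
    exact ⟨a, congrArg g ha⟩
  · have he : (i₀ ≫ h.isoOpensRange.hom) ≫ h.opensRange.ι = specAlg A (Ar ⧸ J) ≫ g := by
      rw [Category.assoc, Scheme.Hom.isoOpensRange_hom_ι]
      show i₀ ≫ specAlg A Ar ≫ g = _
      rw [← Category.assoc, ← Spec.map_comp]
      rfl
    rw [he]
    intro z
    obtain ⟨V, hz, hV⟩ := hsuf (Ar ⧸ J) (by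
        rw [IsScalarTower.algebraMap_apply A Ar (Ar ⧸ J)]
        exact (IsLocalization.Away.algebraMap_isUnit r).map _)
      (fun a ha => by
        rw [IsScalarTower.algebraMap_apply A Ar (Ar ⧸ J)]
        exact Ideal.Quotient.eq_zero_iff_mem.2 (Ideal.mem_map_of_mem _ ha)) z
    exact ⟨V, hz, triv_pullback_of_factor (𝟙 _) (by rw [Category.id_comp]; exact Category.assoc _ _ _)
      ((triv_left_iff g (V.ι ≫ specAlg A (Ar ⧸ J))).1 hV)⟩
  · let v : T ⟶ Spec (CommRingCat.of Ar) := u ≫ h.isoOpensRange.inv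
    have hv : v ≫ h = u ≫ h.opensRange.ι := by
      rw [Category.assoc, Scheme.Hom.isoOpensRange_inv_comp]
    have hloc : ∀ t : T, ∃ W : T.Opens, t ∈ W ∧ ∃ w : (W : Scheme.{u}) ⟶ Spec (CommRingCat.of (Ar ⧸ J)),
        w ≫ i₀ = W.ι ≫ v := by
      intro t
      obtain ⟨V, htV, hV⟩ := hu t
      obtain ⟨W, hW, htW, hWV⟩ := exists_isAffineOpen_mem_and_subset (X := T) (U := V) htV
      refine ⟨W, htW, ?_⟩
      haveI : IsAffine (W : Scheme.{u}) := hW
      let B : Type u := Γ(T, W)
      haveI : IsNoetherianRing B := IsLocallyNoetherian.component_noetherian ⟨W, hW⟩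
      let j : Spec (CommRingCat.of B) ⟶ (W : Scheme.{u}) := (IsAffineOpen.isoSpec hW).inv
      obtain ⟨α, hα⟩ := Spec.map_surjective (j ≫ W.ι ≫ v)
      letI : Algebra Ar B := α.hom.toAlgebra
      letI : Algebra A B := (α.hom.comp (algebraMap A Ar)).toAlgebra
      have hspec : specAlg A B ≫ g = j ≫ W.ι ≫ u ≫ h.opensRange.ι := by
        rw [← hv, ← Category.assoc W.ι, ← Category.assoc j, ← hα]
        show Spec.map (CommRingCat.ofHom (algebraMap A Ar) ≫ α) ≫ g = _
        rw [Spec.map_comp, Category.assoc]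
      have hT : Triv ((Scheme.Modules.pullback (pullback.fst f (specAlg A B ≫ g))).obj L) :=
        triv_pullback_of_factor (j ≫ T.homOfLE hWV) (by
          rw [hspec, Category.assoc, Scheme.homOfLE_ι_assoc]) hV
      have hzero := hnec B ((IsLocalization.Away.algebraMap_isUnit (S := Ar) r).map α.hom) (triv_chart f A g hT)
      have hJ : ∀ a ∈ J, α.hom a = 0 := fun a ha =>
        RingHom.mem_ker.1 (((Ideal.map_le_iff_le_comap.2 hzero) : J ≤ RingHom.ker α.hom) ha)
      refine ⟨(IsAffineOpen.isoSpec hW).hom ≫ Spec.map (CommRingCat.ofHom (Ideal.Quotient.lift J α.hom hJ)), ?_⟩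
      rw [Category.assoc, ← Spec.map_comp]
      have : CommRingCat.ofHom (Ideal.Quotient.mk J) ≫ CommRingCat.ofHom (Ideal.Quotient.lift J α.hom hJ) = α := rfl
      rw [this, hα]
      exact Iso.hom_inv_id_assoc _ _
    choose W htW w hw using hloc
    let 𝒰 := T.openCoverOfIsOpenCover W (TopologicalSpace.IsOpenCover.mk (eq_top_iff.2 fun t _ =>
      Opens.mem_iSup.2 ⟨t, htW t⟩))
    refine ⟨𝒰.glueMorphisms w fun a b => ?_, ?_⟩
    · show pullback.fst (W a).ι (W b).ι ≫ w a = pullback.snd (W a).ι (W b).ι ≫ w b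
      rw [← cancel_mono i₀, Category.assoc, Category.assoc, hw, hw, pullback.condition_assoc]
    · rw [← cancel_mono h.isoOpensRange.inv]
      refine 𝒰.hom_ext _ _ fun t => ?_
      rw [← Category.assoc, ← Category.assoc, Scheme.Cover.ι_glueMorphisms]
      simp only [Category.assoc, Iso.hom_inv_id, Category.comp_id]
      exact hw t

end Groth.Agent.PicfLib.Seesaw
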