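import Groth.Agent.PicfLib.Seesaw.Local
import Groth.Agent.Lib.InvEnd
import Groth.Agent.Lib.CurveDualPrep

/-! The seesaw subscheme of a line bundle. -/

set_option autoImplicit false
set_option linter.style.haveILetI false
set_option backward.isDefEq.respectTransparency false
set_option backward.isDefEq.respectTransparency.types false

universe u

open CategoryTheory CategoryTheory.Limits AlgebraicGeometry TopologicalSpace Opposite

namespace Groth.Agent.PicfLib.Seesaw

open Groth.Agent.InvX Groth.Agent.H23.TrivBasic Groth.Agent.H23.SeesawGlobal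

variable {X S : Scheme.{u}} (f : X ⟶ S) [IsProper f] [Flat f] [GeometricallyIntegral f] (L : X.Modules)

/-- Being pulled back from the base is being trivial locally on the base. -/
theorem locTriv_iff {T : Scheme.{u}} [IsLocallyNoetherian T] (u : T ⟶ S) :
    LocTriv f L u ↔ ∃ M : T.Modules, PicF.IsInvertible M ∧
      Nonempty ((Scheme.Modules.pullback (pullback.fst f u)).obj L ≅
        (Scheme.Modules.pullback (pullback.snd f u)).obj M) := by
  let p := pullback.snd f u
  let LT := (Scheme.Modules.pullback (pullback.fst f u)).obj L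
  constructor
  · intro h
    have hloc : ∀ t : T, ∃ V : T.Opens, t ∈ V ∧ ∃ s : Γ(LT, p ⁻¹ᵁ V), IsFrame s := fun t => by
      obtain ⟨V, ht, hV⟩ := h t
      exact ⟨V, ht, exists_frame_preimage V ((triv_left_iff u V.ι).2 hV)⟩
    obtain ⟨h1, h2⟩ := Groth.Agent.S16759.of_local p (bijective_app p) LT hloc
    exact ⟨_, h1, ⟨(@asIso _ _ _ _ _ h2).symm⟩⟩
  · rintro ⟨M, hM, ⟨φ⟩⟩ t
    obtain ⟨V, ht, ⟨ψ⟩⟩ := hM t
    refine ⟨V, ht, (triv_left_iff u V.ι).1 ?_⟩
    refine Triv.of_iso ((Scheme.Modules.pullback (pullback.fst p V.ι)).mapIso φ).symm ?_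
    refine (triv_comp_iff _ _).2 ?_
    refine (triv_congr (pullback.condition (f := p) (g := V.ι)).symm).1 ?_
    exact (triv_comp_iff _ _).1
      (Triv.pullback _ (Triv.of_iso ((Scheme.Modules.restrictFunctorIsoPullback V.ι).app M) ⟨ψ⟩))

/-- The seesaw subscheme. -/
theorem exists_seesaw [IsLocallyNoetherian S] (hL : PicF.IsInvertible L) :
    ∃ (Z : Scheme.{u}) (ι : Z ⟶ S), IsClosedImmersion ι ∧
      ∀ (T : Scheme.{u}) (u : T ⟶ S), IsLocallyNoetherian T →
        ((∃ u', u' ≫ ι = u) ↔ ∃ M : T.Modules, PicF.IsInvertible M ∧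
          Nonempty ((Scheme.Modules.pullback (pullback.fst f u)).obj L ≅
            (Scheme.Modules.pullback (pullback.snd f u)).obj M)) := by
  obtain ⟨Z, ι, hι, h⟩ := exists_glued (Pr := fun {T} (u : T ⟶ S) => LocTriv f L u)
    (exists_rep_near f L hL) (locTriv_pull f L) (locTriv_of_local f L)
  exact ⟨Z, ι, hι, fun T u hT => (h T u hT).trans (locTriv_iff f L u)⟩

end Groth.Agent.PicfLib.Seesaw
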